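import Mathlib

/-! # Element orders in the alternating group of degree 5 -/

namespace CfsgLib.Spectrum

set_option maxRecDepth 100000 in
lemma altFive_pow : ∀ g : alternatingGroup (Fin 5), g ^ 2 = 1 ∨ g ^ 3 = 1 ∨ g ^ 5 = 1 := by
  decide +kernel

lemma altFive_orderOf_mem (g : alternatingGroup (Fin 5)) :
    orderOf g ∈ ({1, 2, 3, 5} : Finset ℕ) := by
  rcases altFive_pow g with h | h | h <;>
    rcases (Nat.dvd_prime (by norm_num)).mp (orderOf_dvd_of_pow_eq_one h) with h' | h' <;>
    simp [h']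

set_option maxRecDepth 100000 in
lemma altFive_exists_pow {p : ℕ} (hp : p = 2 ∨ p = 3 ∨ p = 5) :
    ∃ g : alternatingGroup (Fin 5), g ≠ 1 ∧ g ^ p = 1 := by
  rcases hp with rfl | rfl | rfl <;> decide +kernel

lemma altFive_exists_orderOf {p : ℕ} (hp : p ∈ ({1, 2, 3, 5} : Finset ℕ)) :
    ∃ g : alternatingGroup (Fin 5), orderOf g = p := by
  simp only [Finset.mem_insert, Finset.mem_singleton] at hp
  rcases hp with rfl | hp
  · exact ⟨1, orderOf_one⟩
  · have hpp : p.Prime := by rcases hp with rfl | rfl | rfl <;> norm_num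
    haveI := Fact.mk hpp
    obtain ⟨g, hg, hgp⟩ := altFive_exists_pow hp
    exact ⟨g, orderOf_eq_prime hgp hg⟩

end CfsgLib.Spectrum
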