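import Mathlib

/-! # Element orders of `V ⋊ G` for a normal elementary abelian `V ≤ G` -/

namespace CfsgLib.Spectrum

variable {G : Type*} [Group G] (V : Subgroup G) [V.Normal]

/-- `(v, g) ↦ v * g`, as a homomorphism `V ⋊ G →* G`. -/
def mulHom : V ⋊[MulAut.conjNormal] G →* G :=
  SemidirectProduct.lift V.subtype (MonoidHom.id G) fun g => by
    ext v
    simp [MulAut.conjNormal_apply]

/-- `(v, g) ↦ (v * g, g)`. -/
def pairHom : V ⋊[MulAut.conjNormal] G →* G × G :=
  (mulHom V).prod SemidirectProduct.rightHom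

lemma pairHom_injective : Function.Injective (pairHom V) := by
  intro x y h
  have h2 : x.right = y.right := congrArg Prod.snd h
  have h1 : (x.left : G) * x.right = (y.left : G) * y.right := congrArg Prod.fst h
  rw [h2, mul_left_inj] at h1
  exact SemidirectProduct.ext (Subtype.ext h1) h2

lemma orderOf_dichotomy {p : ℕ} (hp : p.Prime) (hexp : ∀ x : V, x ^ p = 1) (g : G) :
    orderOf g = orderOf (QuotientGroup.mk' V g) ∨
      orderOf g = orderOf (QuotientGroup.mk' V g) * p := by
  obtain ⟨k, hk⟩ := orderOf_map_dvd (QuotientGroup.mk' V) g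
  set j := orderOf (QuotientGroup.mk' V g) with hj
  rw [hk]
  have hmem : g ^ j ∈ V := by
    rw [← QuotientGroup.eq_one_iff, ← QuotientGroup.mk'_apply, map_pow, hj, pow_orderOf_eq_one]
  have hone : g ^ (j * p) = 1 := by
    rw [pow_mul]
    simpa using congrArg Subtype.val (hexp ⟨g ^ j, hmem⟩)
  have hdvd : j * k ∣ j * p := hk ▸ orderOf_dvd_of_pow_eq_one hone
  rcases Nat.eq_zero_or_pos j with h0 | hpos
  · simp [h0]
  rcases (Nat.dvd_prime hp).mp (Nat.dvd_of_mul_dvd_mul_left hpos hdvd) with h | h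
  · exact Or.inl (by rw [h, mul_one])
  · exact Or.inr (by rw [h])

/-- `V ⋊ G` has the element orders of `G` when `V` has prime exponent. -/
theorem range_orderOf_semidirect {p : ℕ} (hp : p.Prime) (hexp : ∀ x : V, x ^ p = 1) :
    Set.range (orderOf : V ⋊[MulAut.conjNormal] G → ℕ) = Set.range (orderOf : G → ℕ) := by
  apply Set.eq_of_subset_of_subset
  · rintro _ ⟨x, rfl⟩
    rw [← orderOf_injective _ (pairHom_injective V) x, Prod.orderOf]
    have heq : QuotientGroup.mk' V (pairHom V x).1 = QuotientGroup.mk' V (pairHom V x).2 := by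
      show QuotientGroup.mk' V ((x.left : G) * x.right) = QuotientGroup.mk' V x.right
      rw [map_mul, show QuotientGroup.mk' V (x.left : G) = 1 from
        (QuotientGroup.eq_one_iff _).mpr x.left.2, one_mul]
    rcases orderOf_dichotomy V hp hexp (pairHom V x).1 with h1 | h1 <;>
      rcases orderOf_dichotomy V hp hexp (pairHom V x).2 with h2 | h2 <;>
      rw [heq] at h1
    · exact ⟨(pairHom V x).1, by rw [h1, h2, Nat.lcm_self]⟩
    · exact ⟨(pairHom V x).2, by rw [h1, h2, Nat.lcm_eq_right (dvd_mul_right _ _)]⟩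
    · exact ⟨(pairHom V x).1, by rw [h1, h2, Nat.lcm_eq_left (dvd_mul_right _ _)]⟩
    · exact ⟨(pairHom V x).1, by rw [h1, h2, Nat.lcm_self]⟩
  · rintro _ ⟨g, rfl⟩
    exact ⟨SemidirectProduct.inr g, orderOf_injective _ SemidirectProduct.inr_injective g⟩

end CfsgLib.Spectrum
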