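import Mathlib

/-! # Two primes that are independent in the prime graph and do not act on each other -/

namespace CfsgLib.Spectrum

open scoped commutatorElement

variable {G : Type*} [Group G] [Finite G]

/-- no element of order `p` commutes with one of order `q` -/
def NoCommute (G : Type*) [Group G] (p q : ℕ) : Prop :=
  ∀ x y : G, orderOf x = p → orderOf y = q → ¬ Commute x y

/-- no `p ^ k` dividing the group order, `k ≥ 1`, is `1` modulo `q` -/
def NoActing (G : Type*) [Group G] (p q : ℕ) : Prop :=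
  ∀ k : ℕ, 1 ≤ k → p ^ k ∣ Nat.card G → p ^ k % q ≠ 1

lemma NoCommute.of_subgroup {p q : ℕ} (h : NoCommute G p q) (H : Subgroup G) :
    NoCommute H p q := fun x y hx hy hc =>
  h x y (by rw [Subgroup.orderOf_coe, hx]) (by rw [Subgroup.orderOf_coe, hy]) (hc.map H.subtype)

lemma NoCommute.symm {p q : ℕ} (h : NoCommute G p q) : NoCommute G q p :=
  fun x y hx hy hc => h y x hy hx hc.symm

lemma NoActing.of_subgroup {p q : ℕ} (h : NoActing G p q) (H : Subgroup G) : NoActing H p q :=
  fun k hk hd => h k hk (hd.trans (Subgroup.card_subgroup_dvd_card H))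

lemma noCommute_of_no_order {p q : ℕ} (hp : p.Prime) (hq : q.Prime) (hne : p ≠ q)
    (h : ∀ g : G, orderOf g ≠ p * q) : NoCommute G p q := by
  intro x y hx hy hc
  apply h (x * y)
  rw [hc.orderOf_mul_eq_mul_orderOf_of_coprime
    (by rw [hx, hy]; exact (Nat.coprime_primes hp hq).mpr hne), hx, hy]

/-- Frattini argument: `q` divides the order of every normal subgroup whose order `p` divides. -/
theorem dvd_card_normal {p q : ℕ} (hp : p.Prime) (hq : q.Prime) (hne : p ≠ q)
    (hqG : q ∣ Nat.card G) (hnc : NoCommute G p q) (hna : NoActing G p q)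
    (N : Subgroup G) [N.Normal] (hpN : p ∣ Nat.card N) : q ∣ Nat.card N := by
  by_contra hqN
  haveI := Fact.mk hp
  haveI := Fact.mk hq
  obtain ⟨P⟩ : Nonempty (Sylow p N) := inferInstance
  set P' : Subgroup G := (P : Subgroup N).map N.subtype with hP'
  set R := Subgroup.normalizer (P' : Set G) with hR
  have htop : R ⊔ N = ⊤ := Sylow.normalizer_sup_eq_top P
  have hqR : q ∣ Nat.card R := by
    have h1 : Nat.card G ∣ Nat.card R * Nat.card N := by
      rw [← Subgroup.index_mul_card N]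
      refine mul_dvd_mul_right ?_ _
      have h2 : Function.Surjective ((QuotientGroup.mk' N).comp R.subtype) := by
        intro z
        obtain ⟨g, rfl⟩ := QuotientGroup.mk'_surjective N z
        have hg : g ∈ R ⊔ N := htop ▸ Subgroup.mem_top g
        rw [← SetLike.mem_coe, Subgroup.mul_normal] at hg
        obtain ⟨r, hr, m, hm, rfl⟩ := hg
        refine ⟨⟨r, hr⟩, ?_⟩
        show QuotientGroup.mk' N r = _
        rw [map_mul, show QuotientGroup.mk' N m = 1 from (QuotientGroup.eq_one_iff m).mpr hm,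
          mul_one]
      rw [Subgroup.index_eq_card]
      exact Subgroup.card_dvd_of_surjective _ h2
    exact ((hq.dvd_mul).mp (hqG.trans h1)).resolve_right hqN
  obtain ⟨y, hy⟩ := exists_prime_orderOf_dvd_card' q hqR
  have hy' : orderOf (y : G) = q := by rw [Subgroup.orderOf_coe, hy]
  set Y := Subgroup.zpowers (y : G) with hY
  have hYgrp : IsPGroup q Y := IsPGroup.of_card (n := 1) (by rw [hY, Nat.card_zpowers, hy', pow_one])
  have hYR : Y ≤ R := Subgroup.zpowers_le.mpr y.2
  letI act : MulAction Y P' :=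
    { smul := fun g x => ⟨g * x * g⁻¹, (Subgroup.mem_normalizer_iff.mp (hYR g.2) x).mp x.2⟩
      one_smul := fun x => Subtype.ext (by show (1 : G) * x * (1 : G)⁻¹ = x; group)
      mul_smul := fun g h x => Subtype.ext (by
        show ((g : G) * h) * x * ((g : G) * h)⁻¹ = g * (h * x * (h : G)⁻¹) * (g : G)⁻¹; group) }
  obtain ⟨k, hk⟩ : ∃ k, Nat.card P' = p ^ k := IsPGroup.iff_card.mp (P.isPGroup'.map _)
  have hk1 : 1 ≤ k := by
    by_contra hk0
    have hk' : k = 0 := by omega
    have hd := P.dvd_card_of_dvd_card hpN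
    rw [Nat.card_congr ((P : Subgroup N).equivMapOfInjective _ N.subtype_injective).toEquiv,
      ← hP', hk, hk', pow_zero] at hd
    exact hp.not_dvd_one hd
  have hmod := hYgrp.card_modEq_card_fixedPoints P'
  have hone : (1 : P') ∈ MulAction.fixedPoints Y P' := fun g => Subtype.ext (by
    show (g : G) * 1 * (g : G)⁻¹ = 1; group)
  obtain ⟨x, hx, hx1⟩ : ∃ x ∈ MulAction.fixedPoints Y P', x ≠ 1 := by
    by_contra hcon
    push Not at hcon
    rw [show MulAction.fixedPoints Y P' = {1} from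
      Set.eq_singleton_iff_unique_mem.mpr ⟨hone, hcon⟩, hk] at hmod
    simp only [Nat.card_unique] at hmod
    rw [Nat.ModEq, Nat.one_mod_eq_one.mpr hq.ne_one] at hmod
    exact hna k hk1 (hk ▸ Subgroup.card_subgroup_dvd_card P') hmod
  have hcomm : Commute (y : G) (x : G) := by
    have h1 : (y : G) * x * (y : G)⁻¹ = x := congrArg Subtype.val (hx ⟨y, Subgroup.mem_zpowers _⟩)
    exact mul_inv_eq_iff_eq_mul.mp h1
  obtain ⟨j, hj, hxj⟩ : ∃ j, 1 ≤ j ∧ orderOf (x : G) = p ^ j := by
    obtain ⟨j, hj⟩ := (IsPGroup.iff_orderOf.mp (IsPGroup.of_card hk)) x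
    refine ⟨j, ?_, by rw [Subgroup.orderOf_coe, hj]⟩
    by_contra hj0
    rw [show j = 0 by omega, pow_zero, orderOf_eq_one_iff] at hj
    exact hx1 hj
  refine hnc ((x : G) ^ (p ^ (j - 1))) y ?_ hy' (hcomm.symm.pow_left _)
  rw [orderOf_pow_of_dvd (pow_ne_zero _ hp.ne_zero) (hxj ▸ pow_dvd_pow p (by omega)), hxj,
    Nat.pow_div (by omega) hp.pos, show j - (j - 1) = 1 by omega, pow_one]

/-- For the minimal normal `p`-containing layer `H / N`: both primes divide a chief factor and it
is not abelian. -/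
theorem not_isMulCommutative_quotient {p q : ℕ} (hp : p.Prime) (hq : q.Prime) (hne : p ≠ q)
    (hnc : NoCommute G p q) (hna : NoActing G p q) (N : Subgroup G) [N.Normal]
    (hpN : ¬ p ∣ Nat.card N) (hqN : ¬ q ∣ Nat.card N)
    (hpG : p ∣ Nat.card G) (hqG : q ∣ Nat.card G) : ¬ IsMulCommutative (G ⧸ N) := by
  intro hab
  haveI := Fact.mk hp
  have hindex : Nat.card G = Nat.card (G ⧸ N) * Nat.card N := Subgroup.card_eq_card_quotient_mul_card_subgroup N
  have hpQ : p ∣ Nat.card (G ⧸ N) := ((hp.dvd_mul).mp (hindex ▸ hpG)).resolve_right hpN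
  obtain ⟨z, hz⟩ := exists_prime_orderOf_dvd_card' p hpQ
  haveI : (Subgroup.zpowers z).Normal := ⟨fun a ha g => by
    rwa [mul_comm' g a, mul_inv_cancel_right]⟩
  set K := (Subgroup.zpowers z).comap (QuotientGroup.mk' N) with hK
  have hKc : Nat.card K = p * Nat.card N := by
    rw [← Subgroup.index_mul_card (N.subgroupOf K),
      Nat.card_congr (Subgroup.subgroupOfEquivOfLe (show N ≤ K from fun g hg => by
        rw [hK, Subgroup.mem_comap, show QuotientGroup.mk' N g = 1 from
          (QuotientGroup.eq_one_iff g).mpr hg]; exact one_mem _)).toEquiv]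
    congr 1
    rw [← Subgroup.relIndex, show N = (⊥ : Subgroup (G ⧸ N)).comap (QuotientGroup.mk' N) by
      rw [MonoidHom.comap_bot, QuotientGroup.ker_mk'], hK,
      Subgroup.relIndex_comap, Subgroup.map_comap_eq_self_of_surjective (QuotientGroup.mk'_surjective _),
      Subgroup.relIndex_bot_left, Nat.card_zpowers, hz]
  have := dvd_card_normal hp hq hne hqG hnc hna K (hKc ▸ dvd_mul_right p _)
  rw [hKc] at this
  rcases (hq.dvd_mul).mp this with h | h
  · exact hne ((Nat.prime_dvd_prime_iff_eq hq hp).mp h).symm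
  · exact hqN h

/-- A finite group with two such primes is not solvable. -/
theorem not_isSolvable_of_pair {p q : ℕ} (hp : p.Prime) (hq : q.Prime) (hne : p ≠ q)
    (hpG : p ∣ Nat.card G) (hqG : q ∣ Nat.card G) (hnc : NoCommute G p q)
    (hpq : NoActing G p q) (hqp : NoActing G q p) : ¬ Group.IsSolvable G := by
  intro hs
  obtain ⟨n, hn⟩ := hs
  have key : ∀ i, p ∣ Nat.card (derivedSeries G i) ∧ q ∣ Nat.card (derivedSeries G i) := by
    intro i
    induction i with
    | zero => rw [derivedSeries_zero, Subgroup.card_top]; exact ⟨hpG, hqG⟩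
    | succ i ih =>
      suffices h : p ∣ Nat.card (derivedSeries G (i + 1)) ∨ q ∣ Nat.card (derivedSeries G (i + 1)) by
        rcases h with h | h
        · exact ⟨h, dvd_card_normal hp hq hne hqG hnc hpq _ h⟩
        · exact ⟨dvd_card_normal hq hp hne.symm hpG hnc.symm hqp _ h, h⟩
      by_contra hcon
      rw [not_or] at hcon
      set H := derivedSeries G i with hH
      have hle : derivedSeries G (i + 1) ≤ H := by
        rw [derivedSeries_succ]; exact Subgroup.commutator_le_self _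
      set K := (derivedSeries G (i + 1)).subgroupOf H with hK
      have hKc : Nat.card K = Nat.card (derivedSeries G (i + 1)) :=
        Nat.card_congr (Subgroup.subgroupOfEquivOfLe hle).toEquiv
      haveI : K.Normal := inferInstance
      refine not_isMulCommutative_quotient hp hq hne (hnc.of_subgroup H) (hpq.of_subgroup H) K
        (hKc ▸ hcon.1) (hKc ▸ hcon.2) ih.1 ih.2 ⟨⟨?_⟩⟩
      intro a b
      obtain ⟨a, rfl⟩ := QuotientGroup.mk'_surjective K a
      obtain ⟨b, rfl⟩ := QuotientGroup.mk'_surjective K b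
      rw [← map_mul, ← map_mul, QuotientGroup.mk'_eq_mk']
      refine ⟨⁅b⁻¹, a⁻¹⁆, ?_, by rw [commutatorElement_def]; group⟩
      rw [hK, Subgroup.mem_subgroupOf, derivedSeries_succ]
      exact Subgroup.commutator_mem_commutator (H.inv_mem b.2) (H.inv_mem a.2)
  have := (key n).1
  rw [hn, Subgroup.card_bot] at this
  exact hp.not_dvd_one this

/-- If every prime in `π` (at least two of them) is independent of and does not act on every other
and divides the order of `G` exactly once, `G` has a chief factor that is non-abelian simple and of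
order divisible by all of `π`. -/
theorem exists_simple_section {π : Set ℕ} {p₀ q₀ : ℕ} (hp₀ : p₀ ∈ π) (hq₀ : q₀ ∈ π) (hne : p₀ ≠ q₀)
    (hprime : ∀ p ∈ π, p.Prime) (hdvd : ∀ p ∈ π, p ∣ Nat.card G)
    (hsq : ∀ p ∈ π, ¬ p ^ 2 ∣ Nat.card G)
    (hnc : ∀ p ∈ π, ∀ q ∈ π, p ≠ q → NoCommute G p q)
    (hna : ∀ p ∈ π, ∀ q ∈ π, p ≠ q → NoActing G p q) :
    ∃ (N H : Subgroup G) (_ : N.Normal), H.Normal ∧ N < H ∧
      IsSimpleGroup (↥H ⧸ N.subgroupOf H) ∧ ¬ IsMulCommutative (↥H ⧸ N.subgroupOf H) ∧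
      ∀ p ∈ π, p ∣ Nat.card (↥H ⧸ N.subgroupOf H) := by
  classical
  have hp := hprime p₀ hp₀
  haveI := Fact.mk hp
  obtain ⟨H, hH⟩ := (Set.toFinite {H : Subgroup G | H.Normal ∧ p₀ ∣ Nat.card H}).exists_minimal
    ⟨⊤, inferInstance, by rw [Subgroup.card_top]; exact hdvd _ hp₀⟩
  haveI : H.Normal := hH.prop.1
  have hHne : (⊥ : Subgroup G) < H := bot_lt_iff_ne_bot.mpr fun h => by
    have := hH.prop.2
    rw [h, Subgroup.card_bot] at this
    exact hp.not_dvd_one this
  obtain ⟨N, hN⟩ := (Set.toFinite {N : Subgroup G | N.Normal ∧ N < H}).exists_maximal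
    ⟨⊥, inferInstance, hHne⟩
  haveI : N.Normal := hN.prop.1
  have hNH := hN.prop.2
  have hpN : ∀ K : Subgroup G, K.Normal → K < H → ¬ p₀ ∣ Nat.card K := fun K hK hlt hd =>
    hlt.not_ge (hH.le_of_le ⟨hK, hd⟩ hlt.le)
  have hqN : ∀ p ∈ π, ¬ p ∣ Nat.card N := by
    intro p hp' hd
    by_cases h : p = p₀
    · exact hpN N inferInstance hNH (h ▸ hd)
    · exact hpN N inferInstance hNH (dvd_card_normal (hprime p hp') hp h (hdvd _ hp₀)
        (hnc p hp' p₀ hp₀ h) (hna p hp' p₀ hp₀ h) N hd)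
  have hqH : ∀ p ∈ π, p ∣ Nat.card H := by
    intro p hp'
    by_cases h : p₀ = p
    · exact h ▸ hH.prop.2
    · exact dvd_card_normal hp (hprime p hp') h (hdvd _ hp')
        (hnc p₀ hp₀ p hp' h) (hna p₀ hp₀ p hp' h) H hH.prop.2
  set K := N.subgroupOf H with hK
  have hKc : Nat.card K = Nat.card N := Nat.card_congr (Subgroup.subgroupOfEquivOfLe hNH.le).toEquiv
  have hQ : ∀ p ∈ π, p ∣ Nat.card (↥H ⧸ K) := by
    intro p hp'
    have := hqH p hp'
    rw [Subgroup.card_eq_card_quotient_mul_card_subgroup K, hKc] at this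
    exact ((hprime p hp').dvd_mul.mp this).resolve_right (hqN p hp')
  refine ⟨N, H, inferInstance, inferInstance, hNH, ?_, ?_, hQ⟩
  swap
  · exact not_isMulCommutative_quotient hp (hprime q₀ hq₀) hne
      ((hnc p₀ hp₀ q₀ hq₀ hne).of_subgroup H) ((hna p₀ hp₀ q₀ hq₀ hne).of_subgroup H) K
      (hKc ▸ hqN p₀ hp₀) (hKc ▸ hqN q₀ hq₀) (hqH p₀ hp₀) (hqH q₀ hq₀)
  -- simplicity
  haveI : Nontrivial (↥H ⧸ K) := Finite.one_lt_card_iff_nontrivial.mp
    (hp.one_lt.trans_le (Nat.le_of_dvd Nat.card_pos (hQ p₀ hp₀)))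
  have hsq' : ¬ p₀ * p₀ ∣ Nat.card H := fun h =>
    hsq p₀ hp₀ (by rw [pow_two]; exact h.trans (Subgroup.card_subgroup_dvd_card H))
  -- two normal subgroups of `H`
  have hmul : ∀ A B : Subgroup H, A.Normal → Nat.card A * Nat.card B =
      Nat.card ↥(A ⊔ B) * Nat.card ↥(A ⊓ B) := by
    intro A B hA
    haveI := hA
    have h1 : A.relIndex (A ⊔ B) * Nat.card A = Nat.card ↥(A ⊔ B) := by
      rw [Subgroup.relIndex, ← Nat.card_congr (Subgroup.subgroupOfEquivOfLe
        (le_sup_left : A ≤ A ⊔ B)).toEquiv, Subgroup.index_mul_card]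
    have h2 : (A ⊓ B).relIndex B * Nat.card ↥(A ⊓ B) = Nat.card B := by
      rw [Subgroup.relIndex, ← Nat.card_congr (Subgroup.subgroupOfEquivOfLe
        (inf_le_right : A ⊓ B ≤ B)).toEquiv, Subgroup.index_mul_card]
    rw [Subgroup.inf_relIndex_right] at h2
    rw [Subgroup.relIndex_sup_left] at h1
    rw [← h1, ← h2]; ring
  have hinf : ∀ A B : Subgroup H, A.Normal → p₀ ∣ Nat.card A → p₀ ∣ Nat.card B →
      p₀ ∣ Nat.card ↥(A ⊓ B) := by
    intro A B hA hdA hdB
    by_contra h
    have h2 : p₀ * p₀ ∣ Nat.card ↥(A ⊔ B) * Nat.card ↥(A ⊓ B) := hmul A B hA ▸ mul_dvd_mul hdA hdB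
    have := (Nat.Coprime.mul_left (hp.coprime_iff_not_dvd.mpr h)
      (hp.coprime_iff_not_dvd.mpr h)).dvd_of_dvd_mul_right h2
    exact hsq' (this.trans (Subgroup.card_subgroup_dvd_card _))
  have hconj : ∀ A : Subgroup H, (∀ g : G, A ≤ A.map (MulAut.conjNormal g : H ≃* H).toMonoidHom) →
      (A.map H.subtype).Normal := by
    intro A hA
    constructor
    rintro _ ⟨m, hm, rfl⟩ g
    have heq : A = A.map (MulAut.conjNormal g : H ≃* H).toMonoidHom :=
      Subgroup.eq_of_le_of_card_ge (hA g) (le_of_eq (Nat.card_congr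
        (A.equivMapOfInjective (MulAut.conjNormal g : H ≃* H).toMonoidHom
          (MulEquiv.injective _)).toEquiv.symm))
    refine ⟨MulAut.conjNormal g m, ?_, by simp⟩
    show _ ∈ A
    rw [heq]
    exact ⟨m, hm, rfl⟩
  have hmapcard : ∀ (A : Subgroup H) (φ : H ≃* H), Nat.card (A.map φ.toMonoidHom) = Nat.card A :=
    fun A φ => (Nat.card_congr (A.equivMapOfInjective φ.toMonoidHom φ.injective).toEquiv).symm
  have hbig : ∀ T : Subgroup H, T.Normal → p₀ ∣ Nat.card T → T = ⊤ := by
    obtain ⟨T₀, hT₀⟩ := (Set.toFinite {T : Subgroup H | T.Normal ∧ p₀ ∣ Nat.card T}).exists_minimal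
      ⟨⊤, inferInstance, by rw [Subgroup.card_top]; exact hH.prop.2⟩
    haveI : T₀.Normal := hT₀.prop.1
    have hu : ∀ T : Subgroup H, T.Normal → p₀ ∣ Nat.card T → T₀ ≤ T := fun T hT hd =>
      (hT₀.le_of_le ⟨inferInstance, hinf T₀ T inferInstance hT₀.prop.2 hd⟩ inf_le_left).trans
        inf_le_right
    have hnorm := hconj T₀ fun g => hu _ (Subgroup.Normal.map inferInstance _ (MulEquiv.surjective _))
      (by rw [hmapcard]; exact hT₀.prop.2)
    have hcardT : Nat.card (T₀.map H.subtype) = Nat.card T₀ :=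
      (Nat.card_congr (T₀.equivMapOfInjective _ H.subtype_injective).toEquiv).symm
    have htop : T₀ = ⊤ := by
      have : H ≤ T₀.map H.subtype :=
        hH.le_of_le ⟨hnorm, hcardT ▸ hT₀.prop.2⟩ (Subgroup.map_subtype_le _)
      rw [eq_top_iff]
      intro x _
      obtain ⟨y, hy, hyx⟩ := this x.2
      exact (Subtype.ext hyx : y = x) ▸ hy
    exact fun T hT hd => top_le_iff.mp (htop ▸ hu T hT hd)
  have hsmall : ∀ T : Subgroup H, T.Normal → ¬ p₀ ∣ Nat.card T → T ≤ K := by
    obtain ⟨T₁, hT₁⟩ := (Set.toFinite {T : Subgroup H | T.Normal ∧ ¬ p₀ ∣ Nat.card T}).exists_maximal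
      ⟨⊥, inferInstance, by rw [Subgroup.card_bot]; exact hp.not_dvd_one⟩
    haveI : T₁.Normal := hT₁.prop.1
    have hu : ∀ T : Subgroup H, T.Normal → ¬ p₀ ∣ Nat.card T → T ≤ T₁ := by
      intro T hT hd
      refine le_sup_right.trans (hT₁.le_of_ge ⟨inferInstance, fun h => ?_⟩ le_sup_left)
      have h2 : p₀ ∣ Nat.card T₁ * Nat.card T := by
        rw [hmul T₁ T inferInstance]; exact h.mul_right _
      rcases hp.dvd_mul.mp h2 with h3 | h3
      · exact hT₁.prop.2 h3
      · exact hd h3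
    have hnorm := hconj T₁ fun g => by
      have hle := hu _ (Subgroup.Normal.map inferInstance (MulAut.conjNormal g : H ≃* H).toMonoidHom
        (MulEquiv.surjective _)) (by rw [hmapcard]; exact hT₁.prop.2)
      exact (Subgroup.eq_of_le_of_card_ge hle (hmapcard T₁ _).ge).ge
    have hNT : N ≤ T₁.map H.subtype := fun x hx =>
      ⟨⟨x, hNH.le hx⟩, hu K inferInstance (hKc ▸ hqN p₀ hp₀) hx, rfl⟩
    have hlt : T₁.map H.subtype < H := by
      refine lt_of_le_of_ne (Subgroup.map_subtype_le _) fun h => hT₁.prop.2 ?_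
      rw [Nat.card_congr (T₁.equivMapOfInjective _ H.subtype_injective).toEquiv, h]
      exact hH.prop.2
    have := hN.le_of_ge ⟨hnorm, hlt⟩ hNT
    intro T hT hd x hx
    exact this ⟨x, hu T hT hd hx, rfl⟩
  refine ⟨fun M hM => ?_⟩
  by_cases hd : p₀ ∣ Nat.card (M.comap (QuotientGroup.mk' K))
  · right
    have h := hbig _ inferInstance hd
    rw [← Subgroup.map_comap_eq_self_of_surjective (QuotientGroup.mk'_surjective K) M, h,
      Subgroup.map_top_of_surjective _ (QuotientGroup.mk'_surjective K)]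
  · left
    have h := hsmall _ inferInstance hd
    rw [← Subgroup.map_comap_eq_self_of_surjective (QuotientGroup.mk'_surjective K) M, eq_bot_iff]
    refine (Subgroup.map_mono h).trans (le_of_eq ?_)
    rw [Subgroup.map_eq_bot_iff, QuotientGroup.ker_mk']

end CfsgLib.Spectrum
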