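import Mathlib
import Cfsg.Agent.Spectrum.IndependentPrimes

/-! # The order and element orders of an alternating group, seen through a second group -/

namespace CfsgLib.Spectrum

lemma alt_no_order {n p q : ℕ} (hp : p.Prime) (hq : q.Prime) (hne : p ≠ q) (h1 : n < p + q)
    (h2 : n < p * q) (g : alternatingGroup (Fin n)) : orderOf g ≠ p * q := by
  intro hg
  have hg' : orderOf (g : Equiv.Perm (Fin n)) = p * q := by rw [Subgroup.orderOf_coe, hg]
  set σ := (g : Equiv.Perm (Fin n))
  rw [← Equiv.Perm.lcm_cycleType] at hg'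
  have hsum : σ.cycleType.sum ≤ n := by
    simpa using σ.sum_cycleType_le
  have hdiv : ∀ r : ℕ, r.Prime → r ∣ p * q → ∃ m ∈ σ.cycleType, r ∣ m := by
    intro r hr hrd
    by_contra hcon
    push Not at hcon
    have : r.Coprime σ.cycleType.lcm := by
      have key : ∀ s : Multiset ℕ, (∀ m ∈ s, ¬ r ∣ m) → r.Coprime s.lcm := by
        intro s
        induction s using Multiset.induction with
        | empty => intro _; simp
        | cons a s ih =>
          intro h
          rw [Multiset.lcm_cons]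
          exact Nat.Coprime.coprime_dvd_right
            (Nat.lcm_dvd_mul a s.lcm)
            (Nat.Coprime.mul_right (hr.coprime_iff_not_dvd.mpr (h a (Multiset.mem_cons_self a s)))
              (ih fun m hm => h m (Multiset.mem_cons_of_mem hm)))
      exact key _ hcon
    rw [hg'] at this
    exact hr.coprime_iff_not_dvd.mp this hrd
  obtain ⟨a, ha, hpa⟩ := hdiv p hp (dvd_mul_right p q)
  obtain ⟨b, hb, hqb⟩ := hdiv q hq (dvd_mul_left q p)
  have ha2 := Equiv.Perm.two_le_of_mem_cycleType ha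
  have hb2 := Equiv.Perm.two_le_of_mem_cycleType hb
  by_cases hab : a = b
  · subst hab
    have hpq : p * q ∣ a := ((Nat.coprime_primes hp hq).mpr hne).mul_dvd_of_dvd_of_dvd hpa hqb
    have := Nat.le_of_dvd (by omega) hpq
    have := Multiset.le_sum_of_mem ha
    omega
  · obtain ⟨s, hs⟩ := Multiset.exists_cons_of_mem ha
    rw [hs, Multiset.mem_cons] at hb
    have hb' : b ∈ s := hb.resolve_left (Ne.symm hab)
    rw [hs, Multiset.sum_cons] at hsum
    have := Multiset.le_sum_of_mem hb'
    have := Nat.le_of_dvd (by omega) hpa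
    have := Nat.le_of_dvd (by omega) hqb
    omega

variable {G : Type*} [Group G] [Finite G] {n : ℕ}

lemma two_mul_card (hn : 2 ≤ n) (hcard : Nat.card G = Nat.card ↥(alternatingGroup (Fin n))) :
    2 * Nat.card G = n.factorial := by
  haveI : Nontrivial (Fin n) := Fin.nontrivial_iff_two_le.mpr hn
  rw [hcard, two_mul_nat_card_alternatingGroup, Nat.card_perm, Nat.card_eq_fintype_card,
    Fintype.card_fin]

lemma dvd_card_of_le (hn : 2 ≤ n) (hcard : Nat.card G = Nat.card ↥(alternatingGroup (Fin n)))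
    {p : ℕ} (hp : p.Prime) (hp2 : p ≠ 2) (hpn : p ≤ n) : p ∣ Nat.card G := by
  have h : p ∣ 2 * Nat.card G := two_mul_card hn hcard ▸ Nat.dvd_factorial hp.pos hpn
  exact ((hp.dvd_mul).mp h).resolve_left
    (fun h2 => hp2 ((Nat.prime_dvd_prime_iff_eq hp Nat.prime_two).mp h2))

lemma noCommute_of_spec
    (hspec : Set.range (orderOf : G → ℕ) = Set.range (orderOf : ↥(alternatingGroup (Fin n)) → ℕ))
    {p q : ℕ} (hp : p.Prime) (hq : q.Prime) (hne : p ≠ q) (h1 : n < p + q) (h2 : n < p * q) :
    NoCommute G p q := by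
  refine noCommute_of_no_order hp hq hne fun g hg => ?_
  have hmem : orderOf g ∈ Set.range (orderOf : G → ℕ) := ⟨g, rfl⟩
  rw [hspec] at hmem
  obtain ⟨a, ha⟩ := hmem
  exact alt_no_order hp hq hne h1 h2 a (ha.trans hg)

lemma noActing_of_not_dvd {p q v : ℕ} (hv : ¬ p ^ (v + 1) ∣ Nat.card G)
    (h : ∀ k ∈ Finset.Icc 1 v, p ^ k % q ≠ 1) : NoActing G p q := fun k hk hd =>
  h k (Finset.mem_Icc.mpr ⟨hk, by
    by_contra hlt
    exact hv ((pow_dvd_pow p (not_le.mp hlt)).trans hd)⟩)

lemma not_pow_dvd_card (hn : 2 ≤ n) (hcard : Nat.card G = Nat.card ↥(alternatingGroup (Fin n)))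
    {m : ℕ} (h : ¬ m ∣ n.factorial) : ¬ m ∣ Nat.card G := fun hd =>
  h (two_mul_card hn hcard ▸ hd.mul_left 2)

end CfsgLib.Spectrum
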