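import Mathlib

/-! # Two primes between `m` and `2 m` -/

namespace CfsgLib.Spectrum

open Nat

theorem two_primes_eventually {m : ℕ} (hm : 512 ≤ m) :
    ∃ p q : ℕ, p.Prime ∧ q.Prime ∧ p < q ∧ m < p ∧ q ≤ 2 * m := by
  by_contra hcon
  push Not at hcon
  obtain ⟨q, hq, hmq, hq2⟩ := Nat.exists_prime_lt_and_le_two_mul m (by omega)
  have huniq : ∀ p, p.Prime → m < p → p ≤ 2 * m → p = q := by
    intro p hp hp1 hp2
    by_contra hne
    rcases Nat.lt_or_gt_of_ne hne with h | h
    · exact absurd hq2 (hcon p q hp hq h hp1).not_ge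
    · exact absurd hp2 (hcon q p hq hp h hmq).not_ge
  let f := fun x : ℕ => x ^ m.centralBinom.factorization x
  set S := {p ∈ Finset.range (2 * m / 3 + 1) | Nat.Prime p} with hS
  have hqS : q ∉ S := by
    rw [hS, Finset.mem_filter, Finset.mem_range]; rintro ⟨h, -⟩; omega
  have hsub : insert q S ⊆ Finset.range (2 * m + 1) := by
    intro x hx
    rw [Finset.mem_insert, hS, Finset.mem_filter, Finset.mem_range] at hx
    rw [Finset.mem_range]; omega
  have hprod : m.centralBinom = f q * ∏ p ∈ S, f p := by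
    rw [← Finset.prod_insert hqS]
    refine (Eq.trans ?_ m.prod_pow_factorization_centralBinom).symm
    apply Finset.prod_subset hsub
    intro x hx hx'
    rw [Finset.mem_insert, hS, Finset.mem_filter, Finset.mem_range] at hx'
    push Not at hx'
    rw [Finset.mem_range] at hx
    by_cases hxp : x.Prime
    · have h2x : 2 * m / 3 + 1 ≤ x := by
        by_contra hlt
        exact hx'.2 (by omega) hxp
      have hxm : x ≤ m := by
        by_contra hlt
        exact hx'.1 (huniq x hxp (by omega) (by omega))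
      show x ^ _ = 1
      rw [factorization_centralBinom_of_two_mul_self_lt_three_mul (by omega) hxm (by omega),
        Nat.pow_zero]
    · show x ^ _ = 1
      rw [factorization_eq_zero_of_not_prime m.centralBinom hxp, Nat.pow_zero]
  have hfq : f q ≤ 2 * m := by
    have : m.centralBinom.factorization q ≤ 1 := Nat.factorization_choose_le_one (by nlinarith)
    exact ((pow_right_mono₀ hq.one_lt.le this).trans (pow_one q).le).trans hq2
  have hbound : ∏ p ∈ S, f p ≤ (2 * m) ^ (sqrt (2 * m) - 1) * 4 ^ (2 * m / 3) := by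
    rw [← Finset.prod_filter_mul_prod_filter_not S (· ≤ sqrt (2 * m))]
    apply mul_le_mul'
    · refine (Finset.prod_le_prod' fun p _ => (?_ : f p ≤ 2 * m)).trans ?_
      · exact pow_factorization_choose_le (by omega)
      rw [Finset.prod_const]
      refine pow_right_mono₀ (by omega) ?_
      refine (Finset.card_le_card (t := Finset.Icc 2 (sqrt (2 * m))) fun x hx => ?_).trans
        (by rw [Nat.card_Icc]; omega)
      obtain ⟨h1, h2⟩ := Finset.mem_filter.1 hx
      exact Finset.mem_Icc.mpr ⟨(Finset.mem_filter.1 h1).2.two_le, h2⟩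
    · refine le_trans ?_ (primorial_le_four_pow (2 * m / 3))
      refine (Finset.prod_le_prod' fun p hp => (?_ : f p ≤ p)).trans ?_
      · obtain ⟨h1, h2⟩ := Finset.mem_filter.1 hp
        refine (pow_right_mono₀ (Finset.mem_filter.1 h1).2.one_lt.le ?_).trans (pow_one p).le
        exact Nat.factorization_choose_le_one (sqrt_lt'.mp <| not_le.1 h2)
      refine Finset.prod_le_prod_of_subset_of_one_le' (Finset.filter_subset _ _) ?_
      exact fun p hp _ => (Finset.mem_filter.1 hp).2.one_lt.le
  have hlow : 4 ^ m < m * m.centralBinom :=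
    Nat.four_pow_lt_mul_centralBinom m (by omega)
  have hsqrt : 1 ≤ sqrt (2 * m) := Nat.sqrt_pos.mpr (by omega)
  have : m.centralBinom ≤ (2 * m) ^ sqrt (2 * m) * 4 ^ (2 * m / 3) := by
    rw [hprod]
    calc f q * ∏ p ∈ S, f p
        ≤ (2 * m) * ((2 * m) ^ (sqrt (2 * m) - 1) * 4 ^ (2 * m / 3)) := mul_le_mul' hfq hbound
      _ = _ := by rw [← mul_assoc, ← _root_.pow_succ', Nat.sub_add_cancel hsqrt]
  have h4 := hlow.trans_le (Nat.mul_le_mul_left m this)
  rw [← mul_assoc] at h4
  exact lt_irrefl _ (h4.trans_le (bertrand_main_inequality hm))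

/-- For `n ≥ 11` there are two primes in `(n / 2, n]`. -/
theorem exists_two_primes {n : ℕ} (hn : 11 ≤ n) :
    ∃ p q : ℕ, p.Prime ∧ q.Prime ∧ p < q ∧ n < 2 * p ∧ q ≤ n := by
  rcases eq_or_lt_of_le hn with rfl | hn'
  · exact ⟨7, 11, by norm_num, by norm_num, by norm_num, by norm_num, le_rfl⟩
  suffices h : ∃ p q : ℕ, p.Prime ∧ q.Prime ∧ p < q ∧ n / 2 < p ∧ q ≤ 2 * (n / 2) by
    obtain ⟨p, q, hp, hq, hpq, h1, h2⟩ := h
    exact ⟨p, q, hp, hq, hpq, by omega, by omega⟩
  rcases le_or_gt 512 (n / 2) with h | h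
  · exact two_primes_eventually h
  have hcases : n / 2 < 7 ∨ (7 ≤ n / 2 ∧ n / 2 < 11) ∨ (10 ≤ n / 2 ∧ n / 2 < 17) ∨
      (16 ≤ n / 2 ∧ n / 2 < 29) ∨ (27 ≤ n / 2 ∧ n / 2 < 47) ∨ (45 ≤ n / 2 ∧ n / 2 < 83) ∨
      (79 ≤ n / 2 ∧ n / 2 < 151) ∨ (147 ≤ n / 2 ∧ n / 2 < 283) ∨
      (282 ≤ n / 2 ∧ n / 2 < 557) := by omega
  rcases hcases with h | h | h | h | h | h | h | h | h
  · exact ⟨7, 11, by norm_num, by norm_num, by omega, by omega, by omega⟩
  · exact ⟨11, 13, by norm_num, by norm_num, by omega, by omega, by omega⟩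
  · exact ⟨17, 19, by norm_num, by norm_num, by omega, by omega, by omega⟩
  · exact ⟨29, 31, by norm_num, by norm_num, by omega, by omega, by omega⟩
  · exact ⟨47, 53, by norm_num, by norm_num, by omega, by omega, by omega⟩
  · exact ⟨83, 89, by norm_num, by norm_num, by omega, by omega, by omega⟩
  · exact ⟨151, 157, by norm_num, by norm_num, by omega, by omega, by omega⟩
  · exact ⟨283, 293, by norm_num, by norm_num, by omega, by omega, by omega⟩
  · exact ⟨557, 563, by norm_num, by norm_num, by omega, by omega, by omega⟩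

/-- `p ^ 2` does not divide `n!` for `n < 2 * p`. -/
theorem not_sq_dvd_factorial {p : ℕ} (hp : p.Prime) : ∀ {n : ℕ}, n < 2 * p → ¬ p ^ 2 ∣ n ! := by
  intro n
  induction n with
  | zero =>
    intro _ h
    rw [factorial_zero, Nat.dvd_one] at h
    simp [hp.ne_one] at h
  | succ n ih =>
    intro hn h
    rw [factorial_succ] at h
    rcases eq_or_ne (n + 1) p with he | hne
    · rw [he, pow_two] at h
      have := (Nat.Prime.dvd_factorial hp).mp (Nat.dvd_of_mul_dvd_mul_left hp.pos h)
      omega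
    · have hnd : ¬ p ∣ n + 1 := by
        rintro ⟨k, hk⟩
        have : k < 2 := by
          by_contra hk2
          have := Nat.mul_le_mul_left p (not_lt.mp hk2)
          omega
        interval_cases k <;> omega
      exact ih (by omega)
        (((hp.coprime_iff_not_dvd.mpr hnd).pow_left 2).dvd_of_dvd_mul_left h)

end CfsgLib.Spectrum
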