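import Mathlib
import Cfsg.Agent.Characters.Burnside

/-! # Frobenius groups `(ZMod p)^4 ⋊ C` from a table of matrices, and their element orders -/

namespace CfsgLib.Spectrum

/-- digit in base `p` -/
def pDig (p a k : ℕ) : ℕ := a / p ^ k % p

/-- the matrix of a code -/
def pMat (p a : ℕ) : Matrix (Fin 4) (Fin 4) (ZMod p) := fun i j => (pDig p a (4 * i + j) : ZMod p)

/-- entry of a product of codes -/
def pEntry (p a b i j : ℕ) : ℕ :=
  (pDig p a (4 * i) * pDig p b j + pDig p a (4 * i + 1) * pDig p b (4 + j) +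
    pDig p a (4 * i + 2) * pDig p b (8 + j) + pDig p a (4 * i + 3) * pDig p b (12 + j)) % p

/-- `a * b = c` on codes -/
def prodIs (p a b c : ℕ) : Bool :=
  (List.range 4).all fun i => (List.range 4).all fun j => pEntry p a b i j == pDig p c (4 * i + j) % p

/-- `a * b = a + 1` on codes -/
def prodIsSucc (p a b : ℕ) : Bool :=
  (List.range 4).all fun i => (List.range 4).all fun j =>
    pEntry p a b i j == ((if i = j then 1 else 0) + pDig p a (4 * i + j)) % p

theorem pMat_mul_apply (p a b : ℕ) (i j : Fin 4) :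
    (pMat p a * pMat p b) i j = (pEntry p a b i j : ZMod p) := by
  rw [Matrix.mul_apply, Fin.sum_univ_four, pEntry, ZMod.natCast_mod]
  simp [pMat]

theorem pMat_mul_of_prodIs {p a b c : ℕ} (h : prodIs p a b c = true) :
    pMat p a * pMat p b = pMat p c := by
  simp only [prodIs, List.all_eq_true, List.mem_range, beq_iff_eq] at h
  ext i j
  rw [pMat_mul_apply, h i i.2 j j.2, ZMod.natCast_mod]
  rfl

theorem pMat_mul_of_prodIsSucc {p a b : ℕ} (h : prodIsSucc p a b = true) :
    pMat p a * pMat p b = pMat p a + 1 := by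
  simp only [prodIsSucc, List.all_eq_true, List.mem_range, beq_iff_eq] at h
  ext i j
  rw [pMat_mul_apply, h i i.2 j j.2, ZMod.natCast_mod, Matrix.add_apply, Matrix.one_apply]
  by_cases hij : i = j
  · subst hij; simp [pMat, add_comm]
  · simp [pMat, hij, Fin.val_ne_iff.mpr hij]

/-- multiplication table lookup -/
def tableMul (tbl n i j : ℕ) : ℕ := (tbl >>> (8 * (i * n + j))) % 256

/-- powers by the table -/
def tablePow (tbl n i : ℕ) : ℕ → ℕ
  | 0 => 0
  | k + 1 => tableMul tbl n (tablePow tbl n i k) i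

/-- The certificate. -/
def frobOK (p n : ℕ) (mats : List ℕ) (tbl : ℕ) (inv : List ℕ) (S : List ℕ) : Bool :=
  ((List.range 4).all fun i => (List.range 4).all fun j =>
      pDig p (mats.getD 0 0) (4 * i + j) == if i = j then 1 else 0) &&
  ((List.range n).all fun a => (List.range n).all fun b =>
      decide (tableMul tbl n a b < n) &&
        prodIs p (mats.getD a 0) (mats.getD b 0) (mats.getD (tableMul tbl n a b) 0)) &&
  ((List.range n).all fun a => (List.range n).any fun b => tableMul tbl n a b == 0) &&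
  ((List.range n).all fun a => (List.range n).all fun b => a == b || (List.range 4).any fun i =>
      (List.range 4).any fun j => !(pDig p (mats.getD a 0) (4 * i + j) == pDig p (mats.getD b 0) (4 * i + j))) &&
  ((List.range n).all fun a => a == 0 || prodIsSucc p (inv.getD a 0) (mats.getD a 0)) &&
  ((List.range n).all fun a => S.any fun k =>
      decide (0 < k) && tablePow tbl n a k == 0 &&
        (List.range k).all fun j => j == 0 || !(tablePow tbl n a j == 0)) &&
  (S.all fun k => k == p || (List.range n).any fun a =>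
      decide (0 < k) && tablePow tbl n a k == 0 &&
        (List.range k).all fun j => j == 0 || !(tablePow tbl n a j == 0))

theorem exists_frobenius_spectrum (p n : ℕ) [hp : Fact p.Prime] (hn : 0 < n) (mats : List ℕ)
    (tbl : ℕ) (inv S : List ℕ) (hpS : p ∈ S) (hok : frobOK p n mats tbl inv S = true)
    (hcard : n ∣ 2 ^ 4 * 3 ^ 1) :
    ∃ (H : Type) (_ : Group H) (_ : Fintype H), Group.IsSolvable H ∧
      Set.range (orderOf : H → ℕ) = {k | k ∈ S} := by
  classical
  simp only [frobOK, Bool.and_eq_true, List.all_eq_true, List.any_eq_true, List.mem_range,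
    decide_eq_true_eq, Bool.or_eq_true, Bool.not_eq_true', beq_iff_eq, beq_eq_false_iff_ne] at hok
  obtain ⟨⟨⟨⟨⟨⟨h0, hmul⟩, hinv⟩, hdist⟩, hfpf⟩, hord⟩, hwit⟩ := hok
  let M : Fin n → Matrix (Fin 4) (Fin 4) (ZMod p) := fun a => pMat p (mats.getD a 0)
  have hM0 : M ⟨0, hn⟩ = 1 := by
    ext i j
    show (pDig p (mats.getD 0 0) (4 * i + j) : ZMod p) = _
    rw [h0 i i.2 j j.2, Matrix.one_apply]
    by_cases hij : i = j
    · simp [hij]
    · simp [hij, Fin.val_ne_iff.mpr hij]
  let μ : Fin n → Fin n → Fin n := fun a b => ⟨tableMul tbl n a b, (hmul a a.2 b b.2).1⟩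
  have hM : ∀ a b, M a * M b = M (μ a b) := fun a b => pMat_mul_of_prodIs (hmul a a.2 b b.2).2
  have hfix : ∀ a : Fin n, (a : ℕ) ≠ 0 → ∀ v : Fin 4 → ZMod p,
      Matrix.mulVec (M a) v = v → v = 0 := by
    intro a ha v hv
    have h1 := pMat_mul_of_prodIsSucc ((hfpf a a.2).resolve_left ha)
    have h2 := congrArg (fun A => Matrix.mulVec A v) h1
    simp only [← Matrix.mulVec_mulVec, Matrix.add_mulVec, Matrix.one_mulVec] at h2
    rw [show Matrix.mulVec (pMat p (mats.getD a 0)) v = v from hv] at h2
    simpa using h2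
  let C : Subgroup (Matrix (Fin 4) (Fin 4) (ZMod p))ˣ :=
    { carrier := {u | ∃ a, u.val = M a}
      one_mem' := ⟨⟨0, hn⟩, hM0.symm⟩
      mul_mem' := by
        rintro u w ⟨a, ha⟩ ⟨b, hb⟩
        exact ⟨μ a b, by rw [Units.val_mul, ha, hb, hM]⟩
      inv_mem' := by
        rintro u ⟨a, ha⟩
        obtain ⟨b, hb, hab⟩ := hinv a a.2
        refine ⟨⟨b, hb⟩, ?_⟩
        have h1 : u.val * M ⟨b, hb⟩ = 1 := by
          rw [ha, hM, ← hM0]; exact congrArg M (Fin.ext hab)
        exact Units.inv_eq_of_mul_eq_one_right h1 }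
  have hinjM : Function.Injective M := by
    intro a b hab
    by_contra hne
    obtain ⟨i, hi, j, hj, hij⟩ := (hdist a a.2 b b.2).resolve_left (Fin.val_ne_iff.mpr hne)
    apply hij
    have h1 := congrArg ZMod.val (congrFun (congrFun hab ⟨i, hi⟩) ⟨j, hj⟩)
    simpa [M, pMat, pDig, ZMod.val_natCast] using h1
  -- the complement as a group of `n` elements
  have hunit : ∀ a : Fin n, ∃ u : C, (u : (Matrix (Fin 4) (Fin 4) (ZMod p))ˣ).val = M a := by
    intro a
    obtain ⟨b, hb, hab⟩ := hinv a a.2
    have h1 : M a * M ⟨b, hb⟩ = 1 := by rw [hM, ← hM0]; exact congrArg M (Fin.ext hab)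
    exact ⟨⟨⟨M a, M ⟨b, hb⟩, h1, mul_eq_one_comm.mp h1⟩, a, rfl⟩, rfl⟩
  choose U hU using hunit
  have hUinj : Function.Injective U := fun a b h => hinjM (by rw [← hU a, ← hU b, h])
  have hUsurj : Function.Surjective U := by
    rintro ⟨u, a, ha⟩
    exact ⟨a, Subtype.ext (Units.ext ((hU a).trans ha.symm))⟩
  have hU0 : U ⟨0, hn⟩ = 1 := Subtype.ext (Units.ext ((hU _).trans hM0))
  have hUmul : ∀ a b, U a * U b = U (μ a b) := fun a b => Subtype.ext (Units.ext (by
    rw [Subgroup.coe_mul, Units.val_mul, hU, hU, hU, hM]))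
  letI : Fintype C := Fintype.ofBijective U ⟨hUinj, hUsurj⟩
  have hpow : ∀ (a : Fin n) (k : ℕ), ∃ h : tablePow tbl n a k < n, U a ^ k = U ⟨_, h⟩ := by
    intro a k
    induction k with
    | zero => exact ⟨hn, by rw [pow_zero]; exact hU0.symm⟩
    | succ k ih =>
      obtain ⟨hk, he⟩ := ih
      exact ⟨(hmul _ hk a a.2).1, by rw [pow_succ, he, hUmul]; rfl⟩
  have horder : ∀ (a : Fin n) (k : ℕ), ((0 < k ∧ tablePow tbl n a k = 0) ∧
      ∀ j < k, j = 0 ∨ ¬ tablePow tbl n a j = 0) → orderOf (U a) = k := by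
    rintro a k ⟨⟨hk0, hk⟩, hj⟩
    refine (orderOf_eq_iff hk0).mpr ⟨?_, fun j hjk hj0 => ?_⟩
    · obtain ⟨h, he⟩ := hpow a k
      rw [he, ← hU0]; exact congrArg U (Fin.ext hk)
    · obtain ⟨h, he⟩ := hpow a j
      rw [he, ← hU0]
      intro hc
      exact ((hj j hjk).resolve_left (Nat.pos_iff_ne_zero.mp hj0))
        (congrArg Fin.val (hUinj hc))
  -- the action
  let V := Multiplicative (Fin 4 → ZMod p)
  let φ : C →* MulAut V :=
    { toFun := fun u =>
        { toFun := fun v => Multiplicative.ofAdd (Matrix.mulVec u.1.val v.toAdd)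
          invFun := fun v => Multiplicative.ofAdd (Matrix.mulVec (u.1⁻¹).val v.toAdd)
          left_inv := fun v => by simp [Matrix.mulVec_mulVec]
          right_inv := fun v => by simp [Matrix.mulVec_mulVec]
          map_mul' := fun v w => by
            rw [toAdd_mul, Matrix.mulVec_add, ofAdd_add] }
      map_one' := by ext v; simp
      map_mul' := fun u w => by ext v; simp [Matrix.mulVec_mulVec] }
  have hfixφ : ∀ (c : C) (v : V), c ≠ 1 → φ c v = v → v = 1 := by
    intro c v hc hv
    obtain ⟨a, rfl⟩ := hUsurj c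
    have ha : (a : ℕ) ≠ 0 := fun h => hc (by rw [← hU0]; exact congrArg U (Fin.ext h))
    have := congrArg Multiplicative.toAdd hv
    simp only [φ, MonoidHom.coe_mk, OneHom.coe_mk, MulEquiv.coe_mk, Equiv.coe_fn_mk,
      toAdd_ofAdd, hU] at this
    exact Multiplicative.toAdd.injective (hfix a ha _ this)
  have hexp : ∀ v : V, v ^ p = 1 := fun v => Multiplicative.toAdd.injective (by
    rw [toAdd_pow, toAdd_one]; funext i; simp)
  letI : Fintype (V ⋊[φ] C) := Fintype.ofEquiv _ SemidirectProduct.equivProd.symm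
  have hordH : ∀ x : V ⋊[φ] C, x.right ≠ 1 → orderOf x = orderOf x.right := by
    intro x hx
    set k := orderOf x.right with hk
    refine Nat.dvd_antisymm (orderOf_dvd_of_pow_eq_one ?_) (orderOf_map_dvd SemidirectProduct.rightHom x)
    have hr : (x ^ k).right = 1 := by
      rw [← SemidirectProduct.rightHom_eq_right, map_pow, SemidirectProduct.rightHom_eq_right,
        hk, pow_orderOf_eq_one]
    have hc : x * x ^ k = x ^ k * x := (Commute.self_pow x k).eq
    have h2 := congrArg SemidirectProduct.left hc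
    simp only [SemidirectProduct.mul_left, hr, map_one, MulAut.one_apply] at h2
    rw [mul_comm _ x.left, mul_left_cancel_iff] at h2
    exact SemidirectProduct.ext (by rw [hfixφ _ _ hx h2]; rfl) hr
  refine ⟨V ⋊[φ] C, inferInstance, inferInstance, ?_, ?_⟩
  · haveI : Group.IsSolvable C :=
      CfsgLib.Characters.isSolvable_of_card_eq_primePow_mul 2 3 4 1 Nat.prime_two Nat.prime_three (by
        rw [← Nat.card_congr (Equiv.ofBijective U ⟨hUinj, hUsurj⟩), Nat.card_eq_fintype_card,
          Fintype.card_fin]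
        exact hcard)
    exact Group.isSolvable_of_ker_le_range SemidirectProduct.inl SemidirectProduct.rightHom
      (le_of_eq SemidirectProduct.range_inl_eq_ker_rightHom.symm)
  apply Set.eq_of_subset_of_subset
  · rintro _ ⟨x, rfl⟩
    by_cases hx : x.right = 1
    · by_cases hx' : x = 1
      · -- the identity has the order of the identity of `C`
        obtain ⟨k, hkS, hk⟩ := hord 0 hn
        have := horder ⟨0, hn⟩ k hk
        rw [hU0, orderOf_one] at this
        show orderOf x ∈ S
        rw [hx', orderOf_one, this]; exact hkS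
      · have hx2 : x = SemidirectProduct.inl x.left := SemidirectProduct.ext rfl hx
        show orderOf x ∈ S
        rw [hx2, orderOf_injective _ SemidirectProduct.inl_injective,
          orderOf_eq_prime (hexp _) (fun h => hx' (by rw [hx2, h, map_one]))]
        exact hpS
    · obtain ⟨a, ha⟩ := hUsurj x.right
      obtain ⟨k, hkS, hk⟩ := hord a a.2
      show orderOf x ∈ S
      rw [hordH x hx, ← ha, horder a k hk]
      exact hkS
  · intro k hk
    rcases hwit k hk with rfl | ⟨a, ha, h⟩
    · refine ⟨SemidirectProduct.inl (Multiplicative.ofAdd (Pi.single 0 1)), ?_⟩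
      rw [orderOf_injective _ SemidirectProduct.inl_injective]
      refine orderOf_eq_prime (hexp _) (fun h => ?_)
      have := congrFun (congrArg Multiplicative.toAdd h) 0
      simp at this
    · exact ⟨SemidirectProduct.inr (U ⟨a, ha⟩),
        (orderOf_injective _ SemidirectProduct.inr_injective _).trans (horder _ k h)⟩

end CfsgLib.Spectrum
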